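import Groth.Agent.S14343
import Groth.Agent.Lib.RelDiv.Cartier
import Groth.Agent.Lib.Synt92.KoszulScheme
import Groth.Agent.H26.H1Quasi
import Groth.Agent.H47.ChartPullback
import Groth.Agent.Lib.KindDesc.Good

/-!
# Base change of blow-ups in relatively regular centres
-/

set_option autoImplicit false
set_option linter.style.haveILetI false
universe u
open CategoryTheory CategoryTheory.Limits AlgebraicGeometry TopologicalSpace TensorProduct

namespace Groth.Agent.Lib.BlowBC85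

open Groth.Agent.Lib Groth.Agent.Lib.AlgSpDiv Groth.Agent.Lib.Ideal.EffCartier S14343

theorem isEffCartier_comap_fst {X X' B : Scheme.{u}} (𝓘 : X.IdealSheafData)
    (g : X' ⟶ X)
    (hg : ∀ x' : X', g x' ∈ 𝓘.support → ∃ (U : X.affineOpens) (c : ℕ) (a : Fin c → Γ(X, U.1))
      (V : X'.Opens) (_ : IsAffineOpen V) (e : V ≤ g ⁻¹ᵁ U.1), x' ∈ V ∧ CAlgX.IsH1Regular a ∧
        𝓘.ideal U = Ideal.span (Set.range a) ∧
        CAlgX.IsH1Regular fun k => (g.appLE U.1 V e).hom (a k))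
    (b : B ⟶ X) (hb : BlowUp.IsBlowUp b 𝓘) :
    BlowUp.IsEffCartierIdeal ((𝓘.comap b).comap (pullback.fst b g)) := by
  set R := pullback b g
  set p := pullback.fst b g
  set q := pullback.snd b g
  set J := (𝓘.comap b).comap p with hJdef
  intro r
  by_cases hr : r ∈ J.support
  swap
  · obtain ⟨O, hO, hrO, hle⟩ := exists_isAffineOpen_mem_and_subset
      (show r ∈ J.support.compl from hr)
    refine ⟨⟨O, hO⟩, hrO, 1, one_mem _, ?_⟩
    rw [Ideal.span_singleton_one, ← PrimeSpectrum.zeroLocus_empty_iff_eq_top]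
    refine Set.eq_empty_iff_forall_notMem.mpr fun z hz => ?_
    have h1 : hO.fromSpec z ∈ (J.support : Set R) ∩ O := by
      rw [J.coe_support_inter ⟨O, hO⟩, ← hO.fromSpec_image_zeroLocus]
      exact Set.mem_image_of_mem _ hz
    exact hle h1.2 h1.1
  have hx : b (p r) ∈ 𝓘.support := by
    rw [hJdef, ← Scheme.IdealSheafData.comap_comp, Scheme.IdealSheafData.support_comap] at hr
    exact hr
  have hgq : g (q r) = b (p r) := by
    rw [← Scheme.Hom.comp_apply, ← pullback.condition, Scheme.Hom.comp_apply]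
  obtain ⟨U, c, a, V, hV, hVU, hrV, ha, hspan, hgH⟩ := hg (q r) (hgq ▸ hx)
  have hxU : b (p r) ∈ U.1 := hgq ▸ hVU hrV
  obtain ⟨i, D, hD, hDU, e, hrD, he⟩ := H26.BlowSmooth.exists_chart hb (p r) hxU a hspan
  haveI : IsAffine (U.1 : Scheme.{u}) := U.2
  haveI : IsAffine (D : Scheme.{u}) := hD
  haveI : IsAffine (V : Scheme.{u}) := hV
  let bU := b.resLE U.1 D hDU
  let gV := g.resLE U.1 V hVU
  haveI : IsAffine (pullback bU gV) := inferInstance
  let jj : pullback bU gV ⟶ R := pullback.map bU gV b g D.ι V.ι U.1.ι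
    (Scheme.Hom.resLE_comp_ι b hDU) (Scheme.Hom.resLE_comp_ι g hVU)
  haveI : IsOpenImmersion jj := by infer_instance
  have hjp : jj ≫ p = pullback.fst bU gV ≫ D.ι := pullback.lift_fst _ _ _
  let ι₀ : Γ(X, U.1) ≃+* Γ((U.1 : Scheme.{u}), ⊤) := U.1.topIso.symm.commRingCatIsoToRingEquiv
  let e' : BlowUp.affineAlgebra Γ(X, U.1) (Ideal.span (Set.range a)) (a i) ≃+*
      Γ((D : Scheme.{u}), ⊤) := e.trans D.topIso.symm.commRingCatIsoToRingEquiv
  have hbU : ∀ x, bU.appTop (ι₀ x) = D.topIso.inv (b.appLE U.1 D hDU x) := fun x => by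
    show bU.app ⊤ (U.1.topIso.inv x) = _
    rw [Scheme.Hom.resLE_app_top]
    show D.topIso.inv (b.appLE U.1 D hDU (U.1.topIso.hom (U.1.topIso.inv x))) = _
    rw [Iso.inv_hom_id_apply]
  have he' : ∀ x, e' (algebraMap _ _ x) = bU.appTop (ι₀ x) := fun x => by
    rw [hbU, ← he]
    rfl
  have hH : CAlgX.IsH1Regular fun k => gV.appTop (ι₀ (a k)) := by
    have h4 : ∀ k, gV.appTop (ι₀ (a k)) =
        V.topIso.symm.commRingCatIsoToRingEquiv ((g.appLE U.1 V hVU).hom (a k)) := fun k => by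
      show gV.app ⊤ (U.1.topIso.inv (a k)) = _
      rw [Scheme.Hom.resLE_app_top]
      show V.topIso.inv (g.appLE U.1 V hVU (U.1.topIso.hom (U.1.topIso.inv (a k)))) = _
      rw [Iso.inv_hom_id_apply]
      rfl
    simp only [h4]
    exact isH1Regular_map_equiv _ hgH
  have hnzd := KoszulBlow85.gen_mem_nonZeroDivisors a i ha
    bU.appTop gV.appTop (isPushout_appTop_of_isPullback (IsPullback.of_hasPullback bU gV)) ι₀ e' he' hH
  have hW : BlowUp.IsEffCartierIdeal (J.comap jj) := by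
    intro w
    refine ⟨⟨⊤, isAffineOpen_top _⟩, trivial, _, hnzd, ?_⟩
    rw [← Scheme.IdealSheafData.comap_comp, hjp, Scheme.IdealSheafData.comap_comp,
      Lib.Ideal.Comap.ideal_comap_top (pullback.fst bU gV), Lib.Ideal.Comap.ideal_comap_ι_top ⟨D, hD⟩,
      Lib.Ideal.Comap.ideal_comap b 𝓘 U ⟨D, hD⟩ hDU, hspan,
      show (b.appLE U.1 D hDU).hom = e.toRingHom.comp (algebraMap _ _) from
        RingHom.ext fun r => (he r).symm,
      ← Ideal.map_map,
      BlowUpExists.map_ideal_eq_span _ _ (_root_.Ideal.subset_span (Set.mem_range_self i)),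
      Ideal.map_span, Set.image_singleton, Ideal.map_span, Set.image_singleton, Ideal.map_span,
      Set.image_singleton, hbU, ← he]
    rfl
  obtain ⟨w, rfl⟩ : r ∈ Set.range jj := by
    rw [Scheme.Pullback.range_map]
    refine ⟨?_, ?_⟩
    · rw [Set.mem_preimage, Scheme.Opens.range_ι]; exact hrD
    · rw [Set.mem_preimage, Scheme.Opens.range_ι]; exact hrV
  obtain ⟨O, hwO, s, hs, hIs⟩ := hW w
  obtain ⟨O', hrO, t, ht, htn⟩ := exists_gen_of_comap jj J hwO hIs
  exact ⟨O', hrO, t, htn hs, ht⟩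


theorem isBlowUp_snd {X X' B : Scheme.{u}} (𝓘 : X.IdealSheafData) (g : X' ⟶ X)
    (hg : ∀ x' : X', g x' ∈ 𝓘.support → ∃ (U : X.affineOpens) (c : ℕ) (a : Fin c → Γ(X, U.1))
      (V : X'.Opens) (_ : IsAffineOpen V) (e : V ≤ g ⁻¹ᵁ U.1), x' ∈ V ∧ CAlgX.IsH1Regular a ∧
        𝓘.ideal U = Ideal.span (Set.range a) ∧
        CAlgX.IsH1Regular fun k => (g.appLE U.1 V e).hom (a k))
    (b : B ⟶ X) (hb : BlowUp.IsBlowUp b 𝓘) :
    BlowUp.IsBlowUp (pullback.snd b g) (𝓘.comap g) := by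
  refine ⟨?_, fun Y k hk => ?_⟩
  · rw [← Scheme.IdealSheafData.comap_comp, ← pullback.condition, Scheme.IdealSheafData.comap_comp]
    exact isEffCartier_comap_fst 𝓘 g hg b hb
  · rw [← Scheme.IdealSheafData.comap_comp] at hk
    obtain ⟨h, hh, huniq⟩ := hb.2 Y (k ≫ g) hk
    refine ⟨pullback.lift h k hh, pullback.lift_snd _ _ _, fun l hl => ?_⟩
    simp only at hl
    refine pullback.hom_ext ?_ (by rw [pullback.lift_snd, hl])
    rw [pullback.lift_fst]
    exact huniq _ (by simp only [Category.assoc, pullback.condition]; rw [← Category.assoc, hl])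

/-- The base change of the blow-up in a Koszul regular centre flat over the base is a blow-up. -/
theorem isBlowUp_of_isPullback {S S' P P' Y B B' : Scheme.{u}} {k : Y ⟶ P} [IsClosedImmersion k]
    (hk : RegImm.IsRegularImmersion .koszul k) (sP : P ⟶ S) [Flat (k ≫ sP)]
    {h : S' ⟶ S} {sP' : P' ⟶ S'} {g : P' ⟶ P} (hP : IsPullback g sP' sP h)
    {b : B ⟶ P} (hb : BlowUp.IsBlowUp b k.ker) {μ : B' ⟶ B} {b' : B' ⟶ P'}
    (hB : IsPullback μ b' b g) : BlowUp.IsBlowUp b' (k.ker.comap g) := by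
  have H := isBlowUp_snd k.ker g (fun x' hx' => ?_) b hb
  · refine ⟨?_, fun Z f hf => ?_⟩
    · rw [← hB.isoPullback_hom_snd, Scheme.IdealSheafData.comap_comp]
      exact isEffCartier_comap_of_flat _ H.1
    · obtain ⟨l, hl, huniq⟩ := H.2 Z f hf
      refine ⟨l ≫ hB.isoPullback.inv, by simp [hl], fun m hm => ?_⟩
      rw [← huniq (m ≫ hB.isoPullback.hom) (by simpa using hm), Category.assoc, Iso.hom_inv_id,
        Category.comp_id]
  obtain ⟨y, hy⟩ : g x' ∈ Set.range k := by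
    rw [← SetLike.mem_coe, Scheme.Hom.support_ker, k.isClosedEmbedding.isClosed_range.closure_eq] at hx'
    exact hx'
  obtain ⟨W, hyW, hcl, rs, hrs, hker⟩ := hk.2 y
  haveI := hcl
  obtain ⟨T, hT, hxT, -⟩ := exists_isAffineOpen_mem_and_subset (x := sP (g x')) (U := ⊤) trivial
  obtain ⟨f, hfT, hyf⟩ := W.2.exists_basicOpen_le (V := sP ⁻¹ᵁ T)
    ⟨k y, by show sP (k y) ∈ T; rw [hy]; exact hxT⟩ hyW
  obtain ⟨hO, hsurj, hker'⟩ := Synt92.KoszulScheme.exists_chart k W.2 rs hker f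
  let φ : Γ(P, W.1) →+* Γ(P, P.basicOpen f) := (P.presheaf.map (homOfLE (P.basicOpen_le f)).op).hom
  have hφ : φ.Flat := by
    haveI := W.2.isLocalization_basicOpen f
    have := IsLocalization.flat Γ(P, P.basicOpen f) (Submonoid.powers f)
    rw [← RingHom.flat_algebraMap_iff] at this
    exact this
  let U : P.affineOpens := ⟨P.basicOpen f, W.2.basicOpen f⟩
  let a : Fin rs.length → Γ(P, U.1) := φ ∘ rs.get
  have hI : k.ker.ideal U = Ideal.span (Set.range a) := by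
    rw [Scheme.Hom.ker_apply, hker', Set.range_comp, Set.range_list_get, Ideal.ofList]
    congr 1
    ext x
    simp [φ]
  have ha : CAlgX.IsH1Regular a :=
    KindDesc.h1_flat φ hφ (H26.RegKinds.h1_of_koszul rs hrs)
  have hh : h (sP' x') = sP (g x') := by
    rw [← Scheme.Hom.comp_apply, ← hP.w, Scheme.Hom.comp_apply]
  obtain ⟨T', hT', hxT', hle⟩ := exists_isAffineOpen_mem_and_subset
    (show sP' x' ∈ h ⁻¹ᵁ T from (show h (sP' x') ∈ T by rw [hh]; exact hxT))
  have hT'T : T' ≤ h ⁻¹ᵁ T := fun z hz => hle hz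
  have hO : IsAffineOpen (g ⁻¹ᵁ U.1 ⊓ sP' ⁻¹ᵁ T') :=
    H47.ChartPullback.isAffineOpen_chart hP hT U.2 hfT hT' hT'T
  refine ⟨U, _, a, g ⁻¹ᵁ U.1 ⊓ sP' ⁻¹ᵁ T', hO, inf_le_left, ⟨?_, hxT'⟩, ha, hI, ?_⟩
  · show g x' ∈ P.basicOpen f
    rw [← hy]
    exact hyf
  have hfl : ((Ideal.Quotient.mk (Ideal.span (Set.range a))).comp (sP.appLE T U.1 hfT).hom).Flat := by
    rw [← hI]
    refine (RelDiv.Cartier.appLE_subscheme sP k.ker RingHom.Flat.respectsIso T U hfT).mp ?_
    haveI : Flat (k.ker.subschemeι ≫ sP) := by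
      rw [show k.ker.subschemeι = inv k.toImage ≫ k by
        rw [IsIso.eq_inv_comp]; exact k.toImage_imageι, Category.assoc]
      infer_instance
    exact (k.ker.subschemeι ≫ sP).flat_appLE hT (U.2.preimage _) _
  letI := (sP.appLE T U.1 hfT).hom.toAlgebra
  letI := (h.appLE T T' hT'T).hom.toAlgebra
  haveI : Module.Flat Γ(S, T) (Γ(P, U.1) ⧸ Ideal.span (Set.range a)) := by
    rw [← RingHom.flat_algebraMap_iff]
    exact hfl
  have hbc := H26.H1Quasi.baseChange Γ(S, T) Γ(P, U.1) Γ(S', T') a ha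
  have hpo := H47.ChartPullback.isPushout_chart hP hT U.2 hfT hT' hT'T
  let e := hpo.isoIsPushout _ _ (CommRingCat.isPushout_tensorProduct Γ(S, T) Γ(S', T') Γ(P, U.1))
  have he : ∀ v : Γ(P, U.1), e.hom ((g.appLE U.1 _ inf_le_left).hom v) =
      ((1 : Γ(S', T')) ⊗ₜ[Γ(S, T)] v : Γ(S', T') ⊗[Γ(S, T)] Γ(P, U.1)) := fun v =>
    congr($(hpo.inr_isoIsPushout_hom _ _
      (CommRingCat.isPushout_tensorProduct Γ(S, T) Γ(S', T') Γ(P, U.1))).hom v)
  have hbc' := isH1Regular_map_equiv e.commRingCatIsoToRingEquiv.symm hbc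
  convert hbc' using 1
  funext i
  rw [← he]
  exact (e.commRingCatIsoToRingEquiv.symm_apply_apply _).symm

end Groth.Agent.Lib.BlowBC85
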